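import Mathlib

/-!
A field with sixteen elements, coded by natural numbers below sixteen.
-/

set_option autoImplicit false

namespace Cfsg.Agent.Recognition.U34

/-- The field with four elements. -/
abbrev K2 := QuadraticAlgebra (ZMod 2) 1 1

/-- The field with sixteen elements. -/
abbrev K4 := QuadraticAlgebra K2 ⟨0, 1⟩ 1

instance : Fintype K2 := Fintype.ofEquiv _ (QuadraticAlgebra.equivProd _ _).symm

instance : Fintype K4 := Fintype.ofEquiv _ (QuadraticAlgebra.equivProd _ _).symm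

/-- The multiplication table, four bits for each product. -/
def mulTab : ℕ := 0xa5783ce1b4692df05ba48679c23d1fe07ae36bf258c149d0843fd16a2e957bc0386d92c74f1ae5b0c6b1285f394ed7a0e7f6c5d4a3b28190192a7f4cd5e6b380bc5243ad618f9e70428ef93517dbac6063c914be8d27fa509d15ae26fb73c8402147ed8b9afc5630df9b5713eca86420fedcba98765432100000000000000000

/-- The product of two codes. -/
def fmul (a b : ℕ) : ℕ := (mulTab >>> (4 * (16 * a + b))) % 16

/-- The element with a given code. -/
def toK (n : ℕ) : K4 :=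
  ((n.testBit 0).toNat : K4) + ((n.testBit 1).toNat : K4) * ⟨0, 1⟩ + ((n.testBit 2).toNat : K4) * ⟨0, 1⟩ ^ 2 +
    ((n.testBit 3).toNat : K4) * ⟨0, 1⟩ ^ 3

theorem toK_ops : ∀ a : Fin 16, ∀ b : Fin 16,
    toK (fmul a b) = toK a * toK b ∧ toK (a.1 ^^^ b.1) = toK a + toK b := by decide +kernel

theorem toK_surj : ∀ z : K4, ∃ a : Fin 16, toK a = z := by decide +kernel

theorem toK_inverses : ∀ z : K4, z = 0 ∨ ∃ y : K4, z * y = 1 := by decide +kernel

theorem fmul_lt (a b : ℕ) : fmul a b < 16 := Nat.mod_lt _ (by norm_num)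

theorem xor_lt {a b : ℕ} (ha : a < 16) (hb : b < 16) : a ^^^ b < 16 := Nat.xor_lt_two_pow (n := 4) ha hb

theorem toK_zero : toK 0 = 0 := by decide +kernel

theorem toK_one : toK 1 = 1 := by decide +kernel

variable {F : Type*} [Field F] [Fintype F]

/-- Every field with sixteen elements contains a root of `X ^ 4 + X + 1`. -/
theorem exists_root [CharP F 2] (hF : Fintype.card F = 16) : ∃ z : F, z ^ 4 = z + 1 := by
  classical
  obtain ⟨g, hg⟩ := IsCyclic.exists_generator (α := Fˣ)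
  have ho : orderOf g = 15 := by
    rw [orderOf_eq_card_of_forall_mem_zpowers hg, Nat.card_units, Nat.card_eq_fintype_card, hF]
  set x : F := (g : F) with hx
  have hpow : ∀ k, 0 < k → k < 15 → x ^ k ≠ 1 := fun k h0 hk h => pow_ne_one_of_lt_orderOf h0.ne'
    (ho.symm ▸ hk) (Units.ext (by rwa [Units.val_pow_eq_pow_val]))
  have h15 : x ^ 15 = 1 := by
    rw [hx, ← Units.val_pow_eq_pow_val, ← ho, pow_orderOf_eq_one, Units.val_one]
  have h5 : x ^ 10 + x ^ 5 + 1 = 0 := by
    have h : (x ^ 5 - 1) * (x ^ 10 + x ^ 5 + 1) = 0 := by linear_combination h15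
    exact (mul_eq_zero.1 h).resolve_left (sub_ne_zero.2 (hpow 5 (by norm_num) (by norm_num)))
  have h2 : (2 : F) = 0 := by
    have := CharP.cast_eq_zero F 2
    push_cast at this
    exact this
  have h3 : x ^ 2 + x + 1 ≠ 0 := fun h => hpow 3 (by norm_num) (by norm_num) (by linear_combination (x - 1) * h)
  have hm : (x ^ 2 + x + 1) * ((x ^ 4 + x + 1) * (x ^ 4 + x ^ 3 + 1)) = 0 := by
    linear_combination h5 + (x ^ 9 + x ^ 8 + x ^ 7 + x ^ 6 + x ^ 5 + x ^ 4 + x ^ 3 + x ^ 2 + x + x ^ 4 + x ^ 5 + x ^ 6) * h2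
  rcases mul_eq_zero.1 ((mul_eq_zero.1 hm).resolve_left h3) with h | h
  · exact ⟨x, by linear_combination h - (x + 1) * h2⟩
  · refine ⟨x⁻¹, ?_⟩
    have hx0 : x ≠ 0 := g.ne_zero
    field_simp
    linear_combination -h + (x ^ 4 + x ^ 3) * h2 * 0 + h2

/-- A coding of a field with sixteen elements. -/
structure Coding (F : Type*) [Field F] where
  φ : ℕ → F
  mul : ∀ a b, a < 16 → b < 16 → φ (fmul a b) = φ a * φ b
  add : ∀ a b, a < 16 → b < 16 → φ (a ^^^ b) = φ a + φ b
  zero : φ 0 = 0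
  one : φ 1 = 1
  inj : ∀ a b, a < 16 → b < 16 → φ a = φ b → a = b
  surj : ∀ x : F, ∃ a < 16, φ a = x

theorem toK_inj : ∀ a : Fin 16, ∀ b : Fin 16, toK a = toK b → a = b := by decide +kernel

theorem exists_coding (hF : Fintype.card F = 16) : Nonempty (Coding F) := by
  haveI := Fact.mk Nat.prime_two
  haveI : CharP F 2 := charP_of_card_eq_prime_pow (f := 4) (by rw [Fintype.card_eq_nat_card] at hF; simpa using hF)
  obtain ⟨z, hz⟩ := exists_root hF
  letI := ZMod.algebra F 2
  have h2 : (2 : F) = 0 := by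
    have := CharP.cast_eq_zero F 2
    push_cast at this
    exact this
  have hw : (z ^ 2 + z) * (z ^ 2 + z) = (1 : ZMod 2) • (1 : F) + (1 : ZMod 2) • (z ^ 2 + z) := by
    rw [one_smul, one_smul]
    linear_combination hz + z ^ 3 * h2
  let ψ₁ : K2 →ₐ[ZMod 2] F := QuadraticAlgebra.lift ⟨z ^ 2 + z, hw⟩
  letI : Algebra K2 F := ψ₁.toRingHom.toAlgebra
  have hz2 : z * z = (⟨0, 1⟩ : K2) • (1 : F) + (1 : K2) • z := by
    rw [one_smul, Algebra.smul_def, mul_one]
    show z * z = ψ₁ ⟨0, 1⟩ + z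
    rw [QuadraticAlgebra.lift_apply_apply]
    simp only [zero_smul, one_smul, zero_add]
    linear_combination -z * h2
  let ψ : K4 →+* F := (QuadraticAlgebra.lift ⟨z, hz2⟩).toRingHom
  have hinj : Function.Injective ψ := by
    rw [injective_iff_map_eq_zero]
    intro y hy
    rcases toK_inverses y with h | ⟨w, hw⟩
    · exact h
    · have h1 := congrArg ψ hw
      rw [map_mul, hy, zero_mul, map_one] at h1
      exact absurd h1 zero_ne_one
  have hbij : Function.Bijective ψ := hinj.bijective_of_nat_card_le (by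
    rw [Nat.card_congr (QuadraticAlgebra.equivProd _ _), Nat.card_prod,
      Nat.card_congr (QuadraticAlgebra.equivProd _ _), Nat.card_prod, Nat.card_zmod, Nat.card_eq_fintype_card, hF])
  refine ⟨⟨fun n => ψ (toK n), ?_, ?_, ?_, ?_, ?_, ?_⟩⟩
  · intro a b ha hb
    rw [← map_mul, ← (toK_ops ⟨a, ha⟩ ⟨b, hb⟩).1]
  · intro a b ha hb
    rw [← map_add, ← (toK_ops ⟨a, ha⟩ ⟨b, hb⟩).2]
  · simp only [toK_zero, map_zero]
  · simp only [toK_one, map_one]
  · intro a b ha hb h
    exact congrArg Fin.val (toK_inj ⟨a, ha⟩ ⟨b, hb⟩ (hinj h))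
  · intro x
    obtain ⟨y, rfl⟩ := hbij.2 x
    obtain ⟨a, rfl⟩ := toK_surj y
    exact ⟨a, a.2, rfl⟩

end Cfsg.Agent.Recognition.U34
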