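import Cfsg.Agent.Recognition.U34.Data
import Cfsg.Agent.Lib.Classical.UnitaryGen

/-!
A twelve-dimensional representation of `SU(3, 4)` over the field with five elements in which the elements
of order thirteen have no non-zero fixed vectors.
-/

set_option autoImplicit false

namespace Cfsg.Agent.Recognition.U34

open Matrix Cfsg.Agent.Classical.Unitary

variable {F : Type*} [Field F] [Fintype F] (hF : Fintype.card F = 4 ^ 2) (C : Coding F)

/-- The vector of a code. -/
def vec (v : V3) : Fin 3 → F := ![C.φ v.1, C.φ v.2.1, C.φ v.2.2]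

/-- The matrix of a code. -/
def matF (A : M3) : Matrix (Fin 3) (Fin 3) F :=
  !![C.φ A.1.1, C.φ A.1.2.1, C.φ A.1.2.2; C.φ A.2.1.1, C.φ A.2.1.2.1, C.φ A.2.1.2.2;
    C.φ A.2.2.1, C.φ A.2.2.2.1, C.φ A.2.2.2.2]

theorem small_iff (v : V3) : small v = true ↔ v.1 < 16 ∧ v.2.1 < 16 ∧ v.2.2 < 16 := by
  simp [small, and_assoc]

theorem dot3_lt (r v : V3) : dot3 r v < 16 := xor_lt (xor_lt (fmul_lt _ _) (fmul_lt _ _)) (fmul_lt _ _)

theorem small_app (A : M3) (v : V3) : small (app A v) = true :=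
  (small_iff _).2 ⟨dot3_lt _ _, dot3_lt _ _, dot3_lt _ _⟩

theorem φ_dot3 (r v : V3) (hr : small r = true) (hv : small v = true) :
    C.φ (dot3 r v) = C.φ r.1 * C.φ v.1 + C.φ r.2.1 * C.φ v.2.1 + C.φ r.2.2 * C.φ v.2.2 := by
  obtain ⟨h1, h2, h3⟩ := (small_iff r).1 hr
  obtain ⟨k1, k2, k3⟩ := (small_iff v).1 hv
  rw [dot3, C.add _ _ (xor_lt (fmul_lt _ _) (fmul_lt _ _)) (fmul_lt _ _), C.add _ _ (fmul_lt _ _) (fmul_lt _ _),
    C.mul _ _ h1 k1, C.mul _ _ h2 k2, C.mul _ _ h3 k3]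

theorem vec_app (A : M3) (hA : small A.1 = true ∧ small A.2.1 = true ∧ small A.2.2 = true) (v : V3)
    (hv : small v = true) : matF C A *ᵥ vec C v = vec C (app A v) := by
  funext i
  fin_cases i <;>
    simp [matF, vec, app, φ_dot3 C _ _ hA.1 hv, φ_dot3 C _ _ hA.2.1 hv, φ_dot3 C _ _ hA.2.2 hv, Matrix.mulVec,
      dotProduct, Fin.sum_univ_three]

theorem vec_scale (l : ℕ) (hl : l < 16) (v : V3) (hv : small v = true) :
    vec C (scale l v) = C.φ l • vec C v := by
  obtain ⟨k1, k2, k3⟩ := (small_iff v).1 hv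
  funext i
  fin_cases i <;> simp [vec, scale, C.mul _ _ hl k1, C.mul _ _ hl k2, C.mul _ _ hl k3]

theorem φ_ne_zero {l : ℕ} (hl : l < 16) (h : l ≠ 0) : C.φ l ≠ 0 := fun e =>
  h (C.inj l 0 hl (by norm_num) (e.trans C.zero.symm))

theorem φ_bar (a : ℕ) (ha : a < 16) : C.φ (bar a) = C.φ a ^ 4 := by
  rw [bar, C.mul _ _ (fmul_lt _ _) (fmul_lt _ _), C.mul _ _ ha ha]; ring

theorem φ_herm (u v : V3) (hu : small u = true) (hv : small v = true) :
    C.φ (herm u v) = Cfsg.hermForm 3 F 4 (vec C u) (vec C v) := by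
  obtain ⟨k1, k2, k3⟩ := (small_iff v).1 hv
  rw [herm, φ_dot3 C u _ hu ((small_iff _).2 ⟨fmul_lt _ _, fmul_lt _ _, fmul_lt _ _⟩)]
  simp only [φ_bar C _ k1, φ_bar C _ k2, φ_bar C _ k3, Cfsg.hermForm, Fin.sum_univ_three, vec]
  simp

include hF

theorem two_eq_zero : (2 : F) = 0 := by
  haveI := Fact.mk Nat.prime_two
  haveI : CharP F 2 := charP_of_card_eq_prime_pow (f := 4) (by rw [Fintype.card_eq_nat_card] at hF; simpa using hF)
  have := CharP.cast_eq_zero F 2
  push_cast at this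
  exact this

theorem pow_four_add (a b : F) : (a + b) ^ 4 = a ^ 4 + b ^ 4 := by
  linear_combination (2 * a ^ 3 * b + 3 * a ^ 2 * b ^ 2 + 2 * a * b ^ 3) * two_eq_zero hF

theorem det_matF (A : M3) (hA : small A.1 = true ∧ small A.2.1 = true ∧ small A.2.2 = true) :
    (matF C A).det = C.φ (detCode A) := by
  obtain ⟨⟨a1, a2, a3⟩, ⟨b1, b2, b3⟩, ⟨c1, c2, c3⟩⟩ :=
    And.intro ((small_iff _).1 hA.1) (And.intro ((small_iff _).1 hA.2.1) ((small_iff _).1 hA.2.2))
  simp only [detCode, C.add _ _ (xor_lt (fmul_lt _ _) (fmul_lt _ _)) (fmul_lt _ _), C.add _ _ (fmul_lt _ _) (fmul_lt _ _),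
    C.mul _ _ a1 (xor_lt (fmul_lt _ _) (fmul_lt _ _)), C.mul _ _ a2 (xor_lt (fmul_lt _ _) (fmul_lt _ _)),
    C.mul _ _ a3 (xor_lt (fmul_lt _ _) (fmul_lt _ _)), C.mul _ _ b1 c2, C.mul _ _ b1 c3, C.mul _ _ b2 c1,
    C.mul _ _ b2 c3, C.mul _ _ b3 c1, C.mul _ _ b3 c2]
  simp [matF, Matrix.det_fin_three]
  linear_combination (-(C.φ A.1.1 * C.φ A.2.1.2.2 * C.φ A.2.2.2.1) - C.φ A.1.2.1 * C.φ A.2.1.1 * C.φ A.2.2.2.2 -
    C.φ A.1.2.2 * C.φ A.2.1.2.1 * C.φ A.2.2.1) * two_eq_zero hF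

/-- A coded element of the special unitary group. -/
theorem exists_elem (A : M3) (hA : unitary A = true) :
    ∃ g : Cfsg.SU 3 F 4, mat g = matF C A ∧ ∀ v : V3, small v = true → mat g *ᵥ vec C v = vec C (app A v) := by
  simp only [unitary, Bool.and_eq_true, decide_eq_true_eq] at hA
  obtain ⟨⟨⟨⟨hs1, hs2⟩, hs3⟩, hdet⟩, hcols⟩ := hA
  have hs := And.intro hs1 (And.intro hs2 hs3)
  have hd : (matF C A).det = 1 := by rw [det_matF hF C A hs, hdet, C.one]
  simp only [colOf, List.map_cons, List.map_nil, List.cons.injEq, and_true] at hcols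
  obtain ⟨⟨e00, e01, e02⟩, ⟨e10, e11, e12⟩, e20, e21, e22⟩ := hcols
  obtain ⟨⟨a1, a2, a3⟩, ⟨b1, b2, b3⟩, ⟨c1, c2, c3⟩⟩ :=
    And.intro ((small_iff _).1 hs1) (And.intro ((small_iff _).1 hs2) ((small_iff _).1 hs3))
  have s0 : small (A.1.1, A.2.1.1, A.2.2.1) = true := (small_iff _).2 ⟨a1, b1, c1⟩
  have s1 : small (A.1.2.1, A.2.1.2.1, A.2.2.2.1) = true := (small_iff _).2 ⟨a2, b2, c2⟩
  have s2 : small (A.1.2.2, A.2.1.2.2, A.2.2.2.2) = true := (small_iff _).2 ⟨a3, b3, c3⟩
  have hform : ∀ x y, Cfsg.hermForm 3 F 4 (matF C A *ᵥ x) (matF C A *ᵥ y) = Cfsg.hermForm 3 F 4 x y := by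
    intro x y
    have f00 := (φ_herm C _ _ s0 s0).symm.trans (by rw [e00, C.one] : C.φ (herm _ _) = 1)
    have f01 := (φ_herm C _ _ s0 s1).symm.trans (by rw [e01, C.zero] : C.φ (herm _ _) = 0)
    have f02 := (φ_herm C _ _ s0 s2).symm.trans (by rw [e02, C.zero] : C.φ (herm _ _) = 0)
    have f10 := (φ_herm C _ _ s1 s0).symm.trans (by rw [e10, C.zero] : C.φ (herm _ _) = 0)
    have f11 := (φ_herm C _ _ s1 s1).symm.trans (by rw [e11, C.one] : C.φ (herm _ _) = 1)
    have f12 := (φ_herm C _ _ s1 s2).symm.trans (by rw [e12, C.zero] : C.φ (herm _ _) = 0)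
    have f20 := (φ_herm C _ _ s2 s0).symm.trans (by rw [e20, C.zero] : C.φ (herm _ _) = 0)
    have f21 := (φ_herm C _ _ s2 s1).symm.trans (by rw [e21, C.zero] : C.φ (herm _ _) = 0)
    have f22 := (φ_herm C _ _ s2 s2).symm.trans (by rw [e22, C.one] : C.φ (herm _ _) = 1)
    simp [Cfsg.hermForm, Fin.sum_univ_three, vec] at f00 f01 f02 f10 f11 f12 f20 f21 f22
    simp only [Cfsg.hermForm, matF, Matrix.mulVec, dotProduct, Fin.sum_univ_three, pow_four_add hF, mul_pow]
    simp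
    linear_combination (x 0 * y 0 ^ 4) * f00 + (x 0 * y 1 ^ 4) * f01 + (x 0 * y 2 ^ 4) * f02 +
      (x 1 * y 0 ^ 4) * f10 + (x 1 * y 1 ^ 4) * f11 + (x 1 * y 2 ^ 4) * f12 +
      (x 2 * y 0 ^ 4) * f20 + (x 2 * y 1 ^ 4) * f21 + (x 2 * y 2 ^ 4) * f22
  exact ⟨suMk _ hd hform, rfl, fun v hv => vec_app C A hs v hv⟩

omit hF

theorem small_vecAt (i k : ℕ) : small (vecAt i k) = true :=
  (small_iff _).2 ⟨Nat.mod_lt _ (by norm_num), Nat.mod_lt _ (by norm_num), Nat.mod_lt _ (by norm_num)⟩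

/-- `g` maps one coded point to another. -/
def Link (g : Cfsg.SU 3 F 4) (u v : V3) : Prop := ∃ c : F, c ≠ 0 ∧ mat g *ᵥ vec C u = c • vec C v

/-- `g` maps one frame to another, respecting the cyclic order. -/
def Moves (g : Cfsg.SU 3 F 4) (i j : ℕ) : Prop :=
  ∃ s < 3, ∀ k < 3, Link C g (vecAt i k) (vecAt j ((k + s) % 3))

/-- The values of the twelve functions on a frame. -/
def cvec (i : ℕ) : Fin 12 → ZMod 5 := fun l => (cAt i l : ZMod 5)

/-- A packed matrix. -/
def toMat5 (T : ℕ) : Matrix (Fin 12) (Fin 12) (ZMod 5) := Matrix.of fun r l => (matAt T r l : ZMod 5)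

/-- Pairs consisting of an element and its matrix on the functions. -/
def goodMonoid : Submonoid (Cfsg.SU 3 F 4 × GL (Fin 12) (ZMod 5)) where
  carrier := {p | ∀ i < 832, ∃ j < 832, Moves C p.1 i j ∧ p.2.1 *ᵥ cvec i = cvec j}
  one_mem' := fun i hi => ⟨i, hi, ⟨0, by norm_num, fun k hk => ⟨1, one_ne_zero, by
    rw [Prod.fst_one, mat_one, Matrix.one_mulVec, one_smul, add_zero, Nat.mod_eq_of_lt hk]⟩⟩, by
    rw [Prod.snd_one, Units.val_one, Matrix.one_mulVec]⟩
  mul_mem' := by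
    rintro p q hp hq i hi
    obtain ⟨j, hj, ⟨s, hs, hsm⟩, hjc⟩ := hq i hi
    obtain ⟨l, hl, ⟨t, ht, htm⟩, hlc⟩ := hp j hj
    refine ⟨l, hl, ⟨(s + t) % 3, Nat.mod_lt _ (by norm_num), fun k hk => ?_⟩, ?_⟩
    · obtain ⟨c, hc, hcm⟩ := hsm k hk
      obtain ⟨d, hd, hdm⟩ := htm ((k + s) % 3) (Nat.mod_lt _ (by norm_num))
      refine ⟨c * d, mul_ne_zero hc hd, ?_⟩
      rw [Prod.fst_mul, mul_mulVec, hcm, Matrix.mulVec_smul, hdm, smul_smul,
        show (k + (s + t) % 3) % 3 = ((k + s) % 3 + t) % 3 by omega]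
    · rw [Prod.snd_mul, Units.val_mul, ← Matrix.mulVec_mulVec, hjc, hlc]

theorem cast_sum_eq (T r : ℕ) (hr : r < 12) (v : Fin 12 → ℕ) (w : ℕ)
    (h : (∑ l : Fin 12, matAt T r l * v l) % 5 = w % 5) :
    (toMat5 T *ᵥ fun l => (v l : ZMod 5)) ⟨r, hr⟩ = (w : ZMod 5) := by
  rw [← (ZMod.natCast_eq_natCast_iff' _ _ 5).2 h, Nat.cast_sum]
  simp [Matrix.mulVec, dotProduct, toMat5]

/-- The matrix of a generator. -/
def genMat (a : ℕ) (ha : a < 3) : GL (Fin 12) (ZMod 5) where
  val := toMat5 (matTab a)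
  inv := toMat5 (invTab a)
  val_inv := by
    have h := List.all_eq_true.1 inverses_all a (List.mem_range.2 ha)
    simp only [Bool.and_eq_true, inverseOk, List.all_eq_true, List.mem_range, decide_eq_true_eq] at h
    ext r c
    have e := (ZMod.natCast_eq_natCast_iff' _ (if (r : ℕ) = c then 1 else 0) 5).2 (by
      rw [h.1 r r.2 c c.2]; split_ifs <;> rfl)
    rw [Nat.cast_sum, Finset.sum_range] at e
    rw [Matrix.mul_apply, Matrix.one_apply]
    simpa [toMat5, Fin.val_inj] using e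
  inv_val := by
    have h := List.all_eq_true.1 inverses_all a (List.mem_range.2 ha)
    simp only [Bool.and_eq_true, inverseOk, List.all_eq_true, List.mem_range, decide_eq_true_eq] at h
    ext r c
    have e := (ZMod.natCast_eq_natCast_iff' _ (if (r : ℕ) = c then 1 else 0) 5).2 (by
      rw [h.2 r r.2 c c.2]; split_ifs <;> rfl)
    rw [Nat.cast_sum, Finset.sum_range] at e
    rw [Matrix.mul_apply, Matrix.one_apply]
    simpa [toMat5, Fin.val_inj] using e

theorem unitary_genAt (a : ℕ) : unitary (genAt a) = true := by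
  unfold genAt
  split_ifs
  exacts [unitary_all.1, unitary_all.2.1, unitary_all.2.2.1]

include hF

/-- A generator as an element of the group. -/
noncomputable def genEl (a : ℕ) : Cfsg.SU 3 F 4 := (exists_elem hF C _ (unitary_genAt a)).choose

theorem genEl_spec (a : ℕ) : mat (genEl hF C a) = matF C (genAt a) ∧
    ∀ v : V3, small v = true → mat (genEl hF C a) *ᵥ vec C v = vec C (app (genAt a) v) :=
  (exists_elem hF C _ (unitary_genAt a)).choose_spec

theorem gen_good (a : ℕ) (ha : a < 3) : (genEl hF C a, genMat a ha) ∈ goodMonoid C := by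
  intro i hi
  have h : imageOk a i = true := by
    interval_cases a
    · exact List.all_eq_true.1 images_zero i (List.mem_range.2 hi)
    · exact List.all_eq_true.1 images_one i (List.mem_range.2 hi)
    · exact List.all_eq_true.1 images_two i (List.mem_range.2 hi)
  simp only [imageOk, Bool.and_eq_true, decide_eq_true_eq, List.all_eq_true, List.mem_range] at h
  obtain ⟨⟨⟨hj, hs⟩, hk⟩, hc⟩ := h
  refine ⟨_, hj, ⟨_, hs, fun k hk3 => ?_⟩, ?_⟩
  · obtain ⟨hl, he⟩ := hk k hk3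
    refine ⟨_, φ_ne_zero C (Nat.mod_lt _ (by norm_num)) hl, ?_⟩
    rw [(genEl_spec hF C a).2 _ (small_vecAt i k), he,
      vec_scale C _ (Nat.mod_lt _ (by norm_num)) _ (small_vecAt _ _)]
  · funext r
    refine cast_sum_eq (matTab a) r r.2 (fun l => cAt i l) _ ?_
    have := hc r r.2
    rwa [Finset.sum_range] at this

/-- The subgroup of good pairs. -/
noncomputable def goodGroup : Subgroup (Cfsg.SU 3 F 4 × GL (Fin 12) (ZMod 5)) :=
  { goodMonoid C with
    inv_mem' := fun {x} hx => by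
      haveI : Finite (Cfsg.SU 3 F 4) := inferInstance
      have h : x⁻¹ = x ^ (orderOf x - 1) := by
        rw [inv_eq_iff_mul_eq_one, ← pow_succ', Nat.sub_add_cancel (orderOf_pos x), pow_orderOf_eq_one]
      rw [h]
      exact (goodMonoid C).pow_mem hx _ }

omit hF

theorem first_coord (v : V3) (h : normalised v = true) :
    v.1 = 1 ∨ (v.1 = 0 ∧ v.2.1 = 1) ∨ (v.1 = 0 ∧ v.2.1 = 0 ∧ v.2.2 = 1) := by
  simpa [normalised, and_assoc, or_assoc] using h

theorem eq_of_link_one {u v : V3} (hu : normalised u = true) (hv : normalised v = true)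
    (hus : small u = true) (hvs : small v = true) (h : Link C 1 u v) : u = v := by
  obtain ⟨c, hc, e⟩ := h
  rw [mat_one, Matrix.one_mulVec] at e
  have e0 : C.φ u.1 = c * C.φ v.1 := congrFun e 0
  have e1 : C.φ u.2.1 = c * C.φ v.2.1 := congrFun e 1
  have e2 : C.φ u.2.2 = c * C.φ v.2.2 := congrFun e 2
  obtain ⟨k1, k2, k3⟩ := (small_iff u).1 hus
  obtain ⟨l1, l2, l3⟩ := (small_iff v).1 hvs
  have hcases : ∀ w : V3, normalised w = true →
      C.φ w.1 = 1 ∨ (C.φ w.1 = 0 ∧ C.φ w.2.1 = 1) ∨ (C.φ w.1 = 0 ∧ C.φ w.2.1 = 0 ∧ C.φ w.2.2 = 1) := by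
    intro w hw
    rcases first_coord w hw with h | ⟨h, h'⟩ | ⟨h, h', h''⟩
    · exact Or.inl (by rw [h, C.one])
    · exact Or.inr (Or.inl ⟨by rw [h, C.zero], by rw [h', C.one]⟩)
    · exact Or.inr (Or.inr ⟨by rw [h, C.zero], by rw [h', C.zero], by rw [h'', C.one]⟩)
  have hc1 : c = 1 := by
    rcases hcases u hu with h1 | ⟨h1, h2⟩ | ⟨h1, h2, h3⟩ <;>
      rcases hcases v hv with g1 | ⟨g1, g2⟩ | ⟨g1, g2, g3⟩
    · rw [h1, g1, mul_one] at e0; exact e0.symm
    · rw [h1, g1, mul_zero] at e0; exact absurd e0 one_ne_zero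
    · rw [h1, g1, mul_zero] at e0; exact absurd e0 one_ne_zero
    · rw [h1, g1, mul_one] at e0; exact absurd e0.symm hc
    · rw [h2, g2, mul_one] at e1; exact e1.symm
    · rw [h2, g2, mul_zero] at e1; exact absurd e1 one_ne_zero
    · rw [h1, g1, mul_one] at e0; exact absurd e0.symm hc
    · rw [h2, g2, mul_one] at e1; exact absurd e1.symm hc
    · rw [h3, g3, mul_one] at e2; exact e2.symm
  subst hc1
  rw [one_mul] at e0 e1 e2
  exact Prod.ext (C.inj _ _ k1 l1 e0) (Prod.ext (C.inj _ _ k2 l2 e1) (C.inj _ _ k3 l3 e2))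

theorem eq_one_of_good (M : GL (Fin 12) (ZMod 5))
    (h : ((1 : Cfsg.SU 3 F 4), M) ∈ goodMonoid C) : M = 1 := by
  have hcols : ∀ r : Fin 12, M.1 *ᵥ Pi.single r 1 = Pi.single r 1 := by
    intro r
    have hp := List.all_eq_true.1 pivots_ok r (List.mem_range.2 r.2)
    simp only [Bool.and_eq_true, decide_eq_true_eq, List.all_eq_true, List.mem_range] at hp
    have hc : cvec (pivots.getD r 0) = Pi.single r 1 := by
      funext l
      have e := (ZMod.natCast_eq_natCast_iff' (cAt (pivots.getD r 0) l) (if (r : ℕ) = l then 1 else 0) 5).2 (by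
        rw [hp.2 l l.2]; split_ifs <;> rfl)
      simp only [cvec]
      rw [e]
      by_cases h : r = l
      · subst h; simp
      · simp [h, Ne.symm h, Fin.val_inj]
    obtain ⟨j, hj, ⟨s, hs, hsm⟩, hjc⟩ := h _ hp.1
    have hnorm : ∀ i < 832, ∀ k < 3, normalised (vecAt i k) = true := fun i hi k hk => by
      have := List.all_eq_true.1 frames_normalised i (List.mem_range.2 hi)
      exact List.all_eq_true.1 this k (List.mem_range.2 hk)
    have heq : ∀ k < 3, vecAt (pivots.getD r 0) k = vecAt j ((k + s) % 3) := fun k hk =>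
      eq_of_link_one C (hnorm _ hp.1 k hk) (hnorm _ hj _ (Nat.mod_lt _ (by norm_num))) (small_vecAt _ _)
        (small_vecAt _ _) (hsm k hk)
    have hu := List.all_eq_true.1 pivots_unique r (List.mem_range.2 r.2)
    have hu2 := List.all_eq_true.1 (List.all_eq_true.1 hu j (List.mem_range.2 hj)) s (List.mem_range.2 hs)
    simp only [Bool.or_eq_true, Bool.not_eq_true', decide_eq_false_iff_not, decide_eq_true_eq] at hu2
    have hjr : j = pivots.getD r 0 := hu2.resolve_left fun hn => hn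
      ⟨by simpa using heq 0 (by norm_num), heq 1 (by norm_num), heq 2 (by norm_num)⟩
    rw [← hc]
    rw [hjr] at hjc
    exact hjc
  apply Units.ext
  refine Matrix.ext fun i r => ?_
  have := congrFun (hcols r) i
  rw [Matrix.mulVec_single_one] at this
  rw [Units.val_one, Matrix.one_apply]
  simpa [Pi.single_apply] using this

include hF

theorem eq_tvu_code (c : ℕ) (hc : c < 16) {e : Fin 3 → F} (he : Cfsg.hermForm 3 F 4 e e = 0)
    (hee : e = vec C (1, 1, 0)) (hct : C.φ c + C.φ c ^ 4 = 0) (g : Cfsg.SU 3 F 4) (hg : mat g = matF C (tvCode c)) :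
    g = tvu hF he hct := by
  refine SU_ext fun x => ?_
  rw [tvu_mulVec, hg, hee]
  funext i
  fin_cases i <;>
    simp [matF, tvCode, vec, Cfsg.hermForm, Matrix.mulVec, dotProduct, Fin.sum_univ_three,
      C.add 1 c (by norm_num) hc, C.one, C.zero] <;> ring

theorem tvu_smul_eq {v : Fin 3 → F} (hv : Cfsg.hermForm 3 F 4 v v = 0) (a : F)
    (hav : Cfsg.hermForm 3 F 4 (a • v) (a • v) = 0) {c : F} (hc : c + c ^ 4 = 0)
    (hd : c * a ^ 5 + (c * a ^ 5) ^ 4 = 0) :
    tvu hF hav hc = tvu hF hv hd := by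
  refine SU_ext fun x => ?_
  rw [tvu_mulVec, tvu_mulVec, H_smul_right, smul_smul]
  congr 2
  ring

/-- All transvections lie in every subgroup containing the three generators. -/
theorem closure_gens_eq_top (S : Subgroup (Cfsg.SU 3 F 4)) (h0 : genEl hF C 0 ∈ S) (h1 : genEl hF C 1 ∈ S)
    (h2 : genEl hF C 2 ∈ S) : S = ⊤ := by
  have h20 := two_eq_zero hF
  have hgen : ∀ a < 3, genEl hF C a ∈ S := by
    intro a ha; interval_cases a
    exacts [h0, h1, h2]
  set e : Fin 3 → F := vec C (1, 1, 0) with hedef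
  have he : Cfsg.hermForm 3 F 4 e e = 0 := by
    rw [hedef, ← φ_herm C _ _ (by decide) (by decide), show herm (1, 1, 0) (1, 1, 0) = 0 by decide +kernel, C.zero]
  -- the property propagated along the isotropic points
  have hsteps : ∀ (rest : List (V3 × ℕ × ℕ × V3)) (acc : List V3), stepsOk acc rest = true →
      (∀ v ∈ acc, ∀ (hv : Cfsg.hermForm 3 F 4 (vec C v) (vec C v) = 0) (c : F) (hc : c + c ^ 4 = 0), tvu hF hv hc ∈ S) →
      ∀ w ∈ rest.map (fun s => s.2.2.2),
        ∀ (hw : Cfsg.hermForm 3 F 4 (vec C w) (vec C w) = 0) (c : F) (hc : c + c ^ 4 = 0), tvu hF hw hc ∈ S := by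
    intro rest
    induction rest with
    | nil => intro acc _ _ w hw; simp at hw
    | cons s rest ih =>
      intro acc hok hacc w hw
      simp only [stepsOk, Bool.and_eq_true, decide_eq_true_eq] at hok
      obtain ⟨⟨⟨⟨⟨⟨⟨⟨hs1, hs2⟩, hs3⟩, hs4⟩, hs5⟩, hs6⟩, hs7⟩, hs8⟩, hrest⟩ := hok
      have hnew : ∀ (hw : Cfsg.hermForm 3 F 4 (vec C s.2.2.2) (vec C s.2.2.2) = 0) (c : F) (hc : c + c ^ 4 = 0),
          tvu hF hw hc ∈ S := by
        intro hw c hc
        set a := C.φ s.2.2.1 with ha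
        have ha0 : a ≠ 0 := φ_ne_zero C hs3 hs4
        have ha15 : a ^ 15 = 1 := by
          have := FiniteField.pow_card_sub_one_eq_one a ha0
          rwa [hF] at this
        have hd : c * (a⁻¹) ^ 5 + (c * (a⁻¹) ^ 5) ^ 4 = 0 := by
          have h20' : (a⁻¹) ^ 20 = (a⁻¹) ^ 5 := by
            rw [show (20 : ℕ) = 15 + 5 from rfl, pow_add, inv_pow, ha15, inv_one, one_mul]
          rw [mul_pow, ← pow_mul]
          linear_combination (a⁻¹) ^ 5 * hc + c ^ 4 * h20'
        have hmap : mat (genEl hF C s.2.1) *ᵥ vec C s.1 = a • vec C s.2.2.2 := by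
          rw [(genEl_spec hF C _).2 _ hs5, hs7, vec_scale C _ hs3 _ hs6]
        have haw : Cfsg.hermForm 3 F 4 (a • vec C s.2.2.2) (a • vec C s.2.2.2) = 0 := by
          rw [H_smul_left, H_smul_right, hw, mul_zero, mul_zero]
        have hu : Cfsg.hermForm 3 F 4 (vec C s.1) (vec C s.1) = 0 := by
          rw [← SU_H (genEl hF C s.2.1), hmap, haw]
        have hmem : tvu hF haw hd ∈ S := by
          rw [← tvu_conj hF _ hmap hu haw hd]
          exact S.mul_mem (S.mul_mem (hgen _ hs2) (hacc _ hs1 hu _ hd)) (S.inv_mem (hgen _ hs2))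
        have hd2 : c * (a⁻¹) ^ 5 * a ^ 5 + (c * (a⁻¹) ^ 5 * a ^ 5) ^ 4 = 0 := by
          rw [mul_assoc, ← mul_pow, inv_mul_cancel₀ ha0, one_pow, mul_one]; exact hc
        rw [tvu_smul_eq hF hw a haw hd hd2] at hmem
        have : tvu hF hw hc = tvu hF hw hd2 := SU_ext fun x => by
          rw [tvu_mulVec, tvu_mulVec, mul_assoc c, ← mul_pow, inv_mul_cancel₀ ha0, one_pow, mul_one]
        rw [this]; exact hmem
      rw [List.map_cons, List.mem_cons] at hw
      rcases hw with rfl | hw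
      · exact hnew
      · refine ih (s.2.2.2 :: acc) hrest (fun v hv => ?_) w hw
        rcases List.mem_cons.1 hv with rfl | hv
        · exact hnew
        · exact hacc v hv
  have hbase : ∀ (hv : Cfsg.hermForm 3 F 4 e e = 0) (c : F) (hc : c + c ^ 4 = 0), tvu hF hv hc ∈ S := by
    intro hv c hc
    obtain ⟨a, ha, rfl⟩ := C.surj c
    have hbar : (⟨a, ha⟩ : Fin 16).1 ^^^ bar (⟨a, ha⟩ : Fin 16).1 = 0 := by
      refine C.inj _ 0 (xor_lt ha (fmul_lt _ _)) (by norm_num) ?_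
      show C.φ (a ^^^ bar a) = _
      rw [C.add a (bar a) ha (fmul_lt _ _), φ_bar C a ha, hc, C.zero]
    have hmem := traceZero_codes ⟨a, ha⟩ hbar
    have hcode : ∀ b, b ∈ [1, 6] → ∀ (hb : C.φ b + C.φ b ^ 4 = 0), tvu hF hv hb ∈ S := by
      intro b hb hb'
      simp only [List.mem_cons, List.not_mem_nil, or_false] at hb
      rcases hb with rfl | rfl
      · rw [← eq_tvu_code hF C 1 (by norm_num) hv hedef hb' _ (genEl_spec hF C 0).1]; exact h0
      · rw [← eq_tvu_code hF C 6 (by norm_num) hv hedef hb' _ (genEl_spec hF C 1).1]; exact h1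
    simp only [List.mem_cons, List.not_mem_nil, or_false] at hmem
    rcases hmem with rfl | rfl | rfl | rfl
    · have : tvu hF hv hc = 1 := SU_ext fun x => by
        rw [tvu_mulVec, mat_one, Matrix.one_mulVec, C.zero, zero_mul, zero_smul, add_zero]
      rw [this]; exact S.one_mem
    · exact hcode 1 (by simp) hc
    · exact hcode 6 (by simp) hc
    · have h1' : C.φ 1 + C.φ 1 ^ 4 = 0 := by rw [C.one, one_pow]; linear_combination h20
      have h67 : C.φ 7 = C.φ 1 + C.φ 6 := by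
        rw [← C.add 1 6 (by norm_num) (by norm_num)]; rfl
      have h6' : C.φ 6 + C.φ 6 ^ 4 = 0 := by
        rw [h67, pow_four_add hF] at hc
        linear_combination hc - h1'
      have : tvu hF hv hc = tvu hF hv h1' * tvu hF hv h6' := SU_ext fun x => by
        rw [mul_mulVec, tvu_mulVec, tvu_mulVec, tvu_mulVec, H_add_left, H_smul_left, hv, mul_zero, add_zero, h67,
          add_mul, add_smul, add_comm (_ • e : Fin 3 → F), ← add_assoc]
      rw [this]; exact S.mul_mem (hcode 1 (by simp) h1') (hcode 6 (by simp) h6')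
  have hpoints : ∀ v ∈ points, ∀ (hv : Cfsg.hermForm 3 F 4 (vec C v) (vec C v) = 0) (c : F) (hc : c + c ^ 4 = 0),
      tvu hF hv hc ∈ S := by
    intro v hv
    rcases List.mem_cons.1 hv with rfl | hv
    · exact hbase
    · exact hsteps steps [(1, 1, 0)] steps_ok (fun w hw => by rw [List.mem_singleton.1 hw]; exact hbase) v hv
  refine top_unique ?_
  rw [← tvGroup_eq_top hF (n := 3) (by norm_num) (by norm_num)]
  refine (Subgroup.closure_le _).2 ?_
  rintro g ⟨v, c, hv, hc, hg⟩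
  have hgt : g = tvu hF hv hc := SU_ext fun x => by rw [hg]; rfl
  rw [hgt]
  -- a multiple of a normalised point
  by_cases hv0 : v = 0
  · have : tvu hF hv hc = 1 := SU_ext fun x => by
      subst hv0
      rw [tvu_mulVec, mat_one, Matrix.one_mulVec, smul_zero, add_zero]
    rw [this]; exact S.one_mem
  obtain ⟨a, ha, w, hw, hws, hvw⟩ : ∃ a : F, a ≠ 0 ∧ ∃ w : V3, (herm w w = 0 → w ∈ points) ∧ small w = true ∧ v = a • vec C w := by
    have key : ∀ a : F, a ≠ 0 → ∀ x y z : ℕ, x < 16 → y < 16 → z < 16 →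
        (x = 1 ∨ (x = 0 ∧ y = 1) ∨ (x = 0 ∧ y = 0 ∧ z = 1)) → v = a • vec C (x, y, z) →
        ∃ a : F, a ≠ 0 ∧ ∃ w : V3, (herm w w = 0 → w ∈ points) ∧ small w = true ∧ v = a • vec C w := by
      intro a ha x y z hx hy hz hxyz hv
      refine ⟨a, ha, (x, y, z), ?_, (small_iff _).2 ⟨hx, hy, hz⟩, hv⟩
      intro h
      rcases hxyz with rfl | ⟨rfl, rfl⟩ | ⟨rfl, rfl, rfl⟩
      · have := List.all_eq_true.1 (List.all_eq_true.1 points_complete y (List.mem_range.2 hy)) z (List.mem_range.2 hz)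
        simp only [Bool.and_eq_true, Bool.or_eq_true, Bool.not_eq_true', decide_eq_false_iff_not, decide_eq_true_eq] at this
        exact this.1.1.resolve_left (not_not.2 h)
      · have := List.all_eq_true.1 (List.all_eq_true.1 points_complete 0 (List.mem_range.2 (by norm_num))) z (List.mem_range.2 hz)
        simp only [Bool.and_eq_true, Bool.or_eq_true, Bool.not_eq_true', decide_eq_false_iff_not, decide_eq_true_eq] at this
        exact this.1.2.resolve_left (not_not.2 h)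
      · have := List.all_eq_true.1 (List.all_eq_true.1 points_complete 0 (List.mem_range.2 (by norm_num))) 0 (List.mem_range.2 (by norm_num))
        simp only [Bool.and_eq_true, Bool.or_eq_true, Bool.not_eq_true', decide_eq_false_iff_not, decide_eq_true_eq] at this
        exact this.2.resolve_left (not_not.2 h)
    by_cases h0' : v 0 = 0
    · by_cases h1' : v 1 = 0
      · refine key (v 2) (fun h2' => hv0 (funext fun i => by fin_cases i <;> assumption)) 0 0 1 (by norm_num) (by norm_num) (by norm_num) (by simp) ?_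
        funext i; fin_cases i <;> simp [vec, C.zero, C.one, h0', h1']
      · obtain ⟨z, hz, hze⟩ := C.surj (v 2 / v 1)
        refine key (v 1) h1' 0 1 z (by norm_num) (by norm_num) hz (by simp) ?_
        funext i; fin_cases i <;> simp [vec, C.zero, C.one, h0', hze, mul_div_cancel₀ _ h1']
    · obtain ⟨y, hy, hye⟩ := C.surj (v 1 / v 0)
      obtain ⟨z, hz, hze⟩ := C.surj (v 2 / v 0)
      refine key (v 0) h0' 1 y z (by norm_num) hy hz (by simp) ?_
      funext i; fin_cases i <;> simp [vec, C.one, hye, hze, mul_div_cancel₀ _ h0']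
  subst hvw
  have hwz : Cfsg.hermForm 3 F 4 (vec C w) (vec C w) = 0 := by
    rw [H_smul_left, H_smul_right] at hv
    exact ((mul_eq_zero.1 ((mul_eq_zero.1 hv).resolve_left ha))).resolve_left (pow_ne_zero _ ha)
  have hd : c * a ^ 5 + (c * a ^ 5) ^ 4 = 0 := by
    have ha15 : a ^ 15 = 1 := by
      have := FiniteField.pow_card_sub_one_eq_one a ha
      rwa [hF] at this
    have h20' : a ^ 20 = a ^ 5 := by rw [show (20 : ℕ) = 15 + 5 from rfl, pow_add, ha15, one_mul]
    rw [mul_pow, ← pow_mul]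
    linear_combination a ^ 5 * hc + c ^ 4 * h20'
  rw [tvu_smul_eq hF hwz a hv hc hd]
  refine hpoints w (hw ?_) hwz _ hd
  exact C.inj _ 0 (dot3_lt _ _) (by norm_num) ((φ_herm C w w hws hws).trans (hwz.trans C.zero.symm))

/-- The representation. -/
theorem exists_rep : ∃ (ρ : Cfsg.SU 3 F 4 →* GL (Fin 12) (ZMod 5)) (g : Cfsg.SU 3 F 4),
    mat g = matF C g13 ∧ ∀ v : Fin 12 → ZMod 5, (ρ g : Matrix (Fin 12) (Fin 12) (ZMod 5)) *ᵥ v = v → v = 0 := by
  have hS : (goodGroup C).map (MonoidHom.fst _ _) = ⊤ := closure_gens_eq_top hF C _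
    ⟨_, gen_good hF C 0 (by norm_num), rfl⟩ ⟨_, gen_good hF C 1 (by norm_num), rfl⟩
    ⟨_, gen_good hF C 2 (by norm_num), rfl⟩
  have hex : ∀ g : Cfsg.SU 3 F 4, ∃ M, (g, M) ∈ goodGroup C := fun g => by
    obtain ⟨p, hp, rfl⟩ : g ∈ (goodGroup C).map (MonoidHom.fst _ _) := hS ▸ Subgroup.mem_top g
    exact ⟨p.2, hp⟩
  choose ρ hρ using hex
  have huniq : ∀ g M, (g, M) ∈ goodGroup C → M = ρ g := by
    intro g M h
    have h1 := (goodGroup C).mul_mem ((goodGroup C).inv_mem (hρ g)) h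
    rw [Prod.inv_mk, Prod.mk_mul_mk, inv_mul_cancel] at h1
    have := eq_one_of_good C _ h1
    exact (inv_mul_eq_one.1 this).symm
  refine ⟨MonoidHom.mk' ρ fun g h => (huniq _ _ ((goodGroup C).mul_mem (hρ g) (hρ h))).symm,
    genEl hF C 2, (genEl_spec hF C 2).1, ?_⟩
  intro v hv
  rw [MonoidHom.mk'_apply, ← huniq _ _ (gen_good hF C 2 (by norm_num))] at hv
  have hN : toMat5 fpfTab * ((genMat 2 (by norm_num)).1 - 1) = 1 := by
    ext r c
    have h := List.all_eq_true.1 (List.all_eq_true.1 fpf_inverse r (List.mem_range.2 r.2)) c (List.mem_range.2 c.2)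
    rw [decide_eq_true_eq] at h
    have e := (ZMod.natCast_eq_natCast_iff' _ (if (r : ℕ) = c then 1 else 0) 5).2 (by
      rw [h]; split_ifs <;> rfl)
    rw [Nat.cast_sum, Finset.sum_range] at e
    rw [Matrix.mul_apply, Matrix.one_apply]
    refine Eq.trans (Finset.sum_congr rfl fun l _ => ?_) (e.trans ?_)
    · rw [Nat.cast_mul, ZMod.natCast_mod, Nat.cast_add]
      simp only [genMat, toMat5, Matrix.of_apply, Matrix.sub_apply, Matrix.one_apply, Fin.ext_iff]
      split_ifs <;> simp [sub_eq_add_neg]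
      rfl
    · simp [Fin.ext_iff]
  have h0 : ((genMat 2 (by norm_num)).1 - 1) *ᵥ v = 0 := by
    rw [Matrix.sub_mulVec, Matrix.one_mulVec, hv, sub_self]
  have := congrArg (toMat5 fpfTab *ᵥ ·) h0
  simpa [Matrix.mulVec_mulVec, hN] using this

end Cfsg.Agent.Recognition.U34
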